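import Mathlib.LinearAlgebra.Matrix.PosDef
import Mathlib.Analysis.Matrix.Hermitian
import Mathlib.Analysis.SpecialFunctions.Integrals.Basic
import Mathlib.MeasureTheory.Integral.IntervalIntegral.Basic
import Mathlib.Analysis.SpecialFunctions.Complex.Log
import Mathlib.Analysis.Complex.Order
import Mathlib.Analysis.SpecialFunctions.Trigonometric.Basic
import Mathlib.Data.Nat.Choose.Sum
import Mathlib.Order.Interval.Finset.Nat
import Mathlib.Data.Int.Interval
import Mathlib.Algebra.Polynomial.Roots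

/-!
# Toeplitz matrices with positive symbol
-/

namespace ToeplitzLib

open scoped ComplexOrder
open Finset MeasureTheory Matrix

/-- The symbol. -/
noncomputable def sym (m : ℕ) (t : ℤ → ℂ) (y : ℝ) : ℂ :=
  ∑ k ∈ Ioo (-(m : ℤ)) (m : ℤ), t k * Complex.exp (Complex.I * (k : ℂ) * (y : ℂ))

lemma integral_exp_int (n : ℤ) :
    (∫ y in (0 : ℝ)..(2 * Real.pi), Complex.exp (Complex.I * (n : ℂ) * (y : ℂ))) =
      if n = 0 then ((2 * Real.pi : ℝ) : ℂ) else 0 := by
  split_ifs with h
  · subst h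
    simp
  · have hc : Complex.I * (n : ℂ) ≠ 0 := mul_ne_zero Complex.I_ne_zero (Int.cast_ne_zero.mpr h)
    rw [integral_exp_mul_complex hc]
    have : Complex.exp (Complex.I * (n : ℂ) * ((2 * Real.pi : ℝ) : ℂ)) = 1 := by
      rw [show Complex.I * (n : ℂ) * ((2 * Real.pi : ℝ) : ℂ) = (n : ℂ) * (2 * Real.pi * Complex.I) by
        push_cast; ring]
      exact Complex.exp_int_mul_two_pi_mul_I n
    rw [this]
    simp

/-- The trigonometric polynomial of a vector. -/
noncomputable def trig {m : ℕ} (x : Fin m → ℂ) (y : ℝ) : ℂ :=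
  ∑ j : Fin m, x j * Complex.exp (-(Complex.I * ((j : ℕ) : ℂ) * (y : ℂ)))

lemma countable_trig_zero {m : ℕ} (x : Fin m → ℂ) (hx : x ≠ 0) :
    {y : ℝ | trig x y = 0}.Countable := by
  classical
  let p : Polynomial ℂ := ∑ j : Fin m, Polynomial.C (x j) * Polynomial.X ^ (j : ℕ)
  have hp : p ≠ 0 := by
    intro h
    refine hx (funext fun i => ?_)
    have := congrArg (fun q => Polynomial.coeff q (i : ℕ)) h
    simpa [p, Polynomial.finsetSum_coeff, Polynomial.coeff_C_mul, Polynomial.coeff_X_pow,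
      Fin.val_inj] using this
  let e : ℝ → ℂ := fun y => Complex.exp (-(Complex.I * (y : ℂ)))
  have hsub : {y : ℝ | trig x y = 0} ⊆ e ⁻¹' (p.roots.toFinset : Set ℂ) := by
    intro y hy
    change e y ∈ (p.roots.toFinset : Set ℂ)
    rw [Finset.mem_coe, Multiset.mem_toFinset, Polynomial.mem_roots hp, Polynomial.IsRoot]
    have hev : p.eval (e y) = trig x y := by
      simp only [p, Polynomial.eval_finsetSum, Polynomial.eval_mul, Polynomial.eval_C, Polynomial.eval_pow,
        Polynomial.eval_X, trig, e]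
      refine Finset.sum_congr rfl fun j _ => ?_
      rw [← Complex.exp_nat_mul]
      congr 2
      ring
    rw [hev]
    exact hy
  refine Set.Countable.mono hsub ?_
  rw [← Set.biUnion_of_singleton (p.roots.toFinset : Set ℂ), Set.preimage_iUnion₂]
  refine Set.Countable.biUnion p.roots.toFinset.countable_toSet fun z _ => ?_
  rcases Set.eq_empty_or_nonempty (e ⁻¹' {z}) with h | ⟨y₀, hy₀⟩
  · rw [h]
    exact Set.countable_empty
  refine Set.Countable.mono (fun y hy => ?_) (Set.countable_range fun k : ℤ => y₀ + 2 * Real.pi * k)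
  have h : Complex.exp (-(Complex.I * (y₀ : ℂ))) = Complex.exp (-(Complex.I * (y : ℂ))) := hy₀.trans hy.symm
  obtain ⟨k, hk⟩ := Complex.exp_eq_exp_iff_exists_int.mp h
  refine ⟨k, ?_⟩
  have := congrArg Complex.im hk
  simp at this
  linarith

lemma sum_window {M : Type*} [AddCommMonoid M] {m : ℕ} (a b : Fin m) (f : ℤ → M) :
    (∑ k ∈ Ioo (-(m : ℤ)) (m : ℤ), if k + ((a : ℕ) : ℤ) - ((b : ℕ) : ℤ) = 0 then f k else 0) =
      f (((b : ℕ) : ℤ) - ((a : ℕ) : ℤ)) := by
  rw [Finset.sum_eq_single (((b : ℕ) : ℤ) - ((a : ℕ) : ℤ))]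
  · rw [if_pos (by ring)]
  · intro k _ hk
    rw [if_neg (fun h => hk (by omega))]
  · intro h
    exact absurd (Finset.mem_Ioo.mpr ⟨by have := a.2; omega, by have := b.2; omega⟩) h

theorem posDef (m : ℕ) (t : ℤ → ℂ) (A : Matrix (Fin m) (Fin m) ℂ)
    (hA : ∀ i j : Fin m, A i j = t ((j : ℤ) - (i : ℤ))) (hH : A.IsHermitian)
    (hpos : Set.Countable {y : ℝ | ¬ 0 < (sym m t y).re}) : A.PosDef := by
  refine PosDef.of_dotProduct_mulVec_pos hH fun x hx => ?_
  let g : ℝ → ℂ := fun y => sym m t y * (starRingEnd ℂ (trig x y) * trig x y)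
  have hgc : Continuous g := by
    simp only [g, sym, trig]
    fun_prop
  have hI : ∫ y in (0 : ℝ)..(2 * Real.pi), g y = ((2 * Real.pi : ℝ) : ℂ) * (star x ⬝ᵥ A *ᵥ x) := by
    have hexp : ∀ y, g y = ∑ a : Fin m, ∑ b : Fin m, ∑ k ∈ Ioo (-(m : ℤ)) (m : ℤ),
        (t k * (starRingEnd ℂ (x a) * x b)) *
          Complex.exp (Complex.I * ((k + ((a : ℕ) : ℤ) - ((b : ℕ) : ℤ) : ℤ) : ℂ) * (y : ℂ)) := fun y => by
      simp only [g, sym, trig, map_sum, Finset.sum_mul_sum]
      simp only [Finset.mul_sum, Finset.sum_mul]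
      rw [Finset.sum_comm]
      refine Finset.sum_congr rfl fun a _ => ?_
      rw [Finset.sum_comm]
      refine Finset.sum_congr rfl fun b _ => Finset.sum_congr rfl fun k _ => ?_
      rw [map_mul, ← Complex.exp_conj, mul_mul_mul_comm (starRingEnd ℂ (x a)), ← Complex.exp_add,
        mul_mul_mul_comm, ← Complex.exp_add]
      congr 2
      simp only [map_neg, map_mul, Complex.conj_I, Complex.conj_ofReal, map_natCast]
      push_cast
      ring
    simp_rw [hexp]
    rw [intervalIntegral.integral_finsetSum fun a _ => Continuous.intervalIntegrable (by fun_prop) _ _]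
    simp_rw [fun a : Fin m => intervalIntegral.integral_finsetSum (a := (0 : ℝ)) (b := 2 * Real.pi)
      (μ := volume) (s := (Finset.univ : Finset (Fin m)))
      (f := fun b y => ∑ k ∈ Ioo (-(m : ℤ)) (m : ℤ), (t k * (starRingEnd ℂ (x a) * x b)) *
          Complex.exp (Complex.I * ((k + ((a : ℕ) : ℤ) - ((b : ℕ) : ℤ) : ℤ) : ℂ) * (y : ℂ)))
      fun b _ => Continuous.intervalIntegrable (by fun_prop) _ _]
    simp only [dotProduct, Matrix.mulVec, Pi.star_apply, RCLike.star_def, Finset.mul_sum]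
    refine Finset.sum_congr rfl fun a _ => Finset.sum_congr rfl fun b _ => ?_
    rw [intervalIntegral.integral_finsetSum fun k _ => Continuous.intervalIntegrable (by fun_prop) _ _]
    simp_rw [intervalIntegral.integral_const_mul, integral_exp_int, mul_ite, mul_zero]
    rw [sum_window a b, hA]
    ring
  let h : ℝ → ℝ := fun y => (sym m t y).re * Complex.normSq (trig x y)
  have hh : ∀ y, Complex.reCLM (g y) = h y := fun y => by
    simp only [g, h, Complex.reCLM_apply, ← Complex.normSq_eq_conj_mul_self, Complex.mul_re,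
      Complex.ofReal_re, Complex.ofReal_im, mul_zero, sub_zero]
  have hhc : Continuous h := by
    simp only [h, sym, trig]
    fun_prop
  have hbad : ({y : ℝ | ¬ 0 < (sym m t y).re} ∪ {y : ℝ | trig x y = 0}).Countable :=
    hpos.union (countable_trig_zero x hx)
  have hgood : ∀ᵐ y ∂(volume : Measure ℝ), 0 < h y := by
    refine (hbad.ae_notMem volume).mono fun y hy => ?_
    simp only [Set.mem_union, Set.mem_ofPred_eq, not_or, not_not] at hy
    exact mul_pos hy.1 (Complex.normSq_pos.mpr hy.2)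
  have hIr : ∫ y in (0 : ℝ)..(2 * Real.pi), h y = 2 * Real.pi * (star x ⬝ᵥ A *ᵥ x).re := by
    simp_rw [← hh]
    rw [ContinuousLinearMap.intervalIntegral_comp_comm _ (hgc.intervalIntegrable _ _), hI]
    simp [Complex.mul_re]
  have hp : 0 < ∫ y in (0 : ℝ)..(2 * Real.pi), h y := by
    rw [intervalIntegral.integral_pos_iff_support_of_nonneg_ae (hgood.mono fun y hy => hy.le)
      (hhc.intervalIntegrable _ _)]
    refine ⟨by positivity, ?_⟩
    refine lt_of_lt_of_le ?_ (measure_mono_ae (s := Set.Ioc (0 : ℝ) (2 * Real.pi)) ?_)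
    · rw [Real.volume_Ioc]
      simp [Real.pi_pos]
    · filter_upwards [hgood] with y hy hmem
      exact ⟨ne_of_gt hy, hmem⟩
  rw [hIr] at hp
  refine Complex.lt_def.mpr ⟨?_, ?_⟩
  · simpa using (pos_iff_pos_of_mul_pos hp).mp (by positivity)
  · have : (star x ⬝ᵥ A *ᵥ x).im = 0 := by
      simpa using hH.im_star_dotProduct_mulVec_self x
    simpa using this.symm

/-- The even binomial symbol. -/
lemma sym_choose (n M : ℕ) (hM : n + 2 ≤ M) (y : ℝ) :
    sym M (fun k => (-1 : ℂ) ^ k.natAbs * ((2 * n + 2).choose (n + 1 + k.natAbs) : ℂ)) y =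
      ((2 - 2 * Real.cos y : ℝ) : ℂ) ^ (n + 1) := by
  set z : ℂ := Complex.exp (Complex.I * (y : ℂ)) with hz
  have hz0 : z ≠ 0 := Complex.exp_ne_zero _
  have hsq : ((2 - 2 * Real.cos y : ℝ) : ℂ) = -((1 - z) ^ 2) / z := by
    have hz' : Complex.exp (-(Complex.I * (y : ℂ))) = z⁻¹ := Complex.exp_neg _
    push_cast
    rw [Complex.two_cos, mul_comm (y : ℂ), neg_mul, mul_comm (y : ℂ) Complex.I, ← hz, hz']
    field_simp
    ring
  have hs : ∀ k ∈ Ioo (-(M : ℤ)) (M : ℤ), k ∉ Icc (-((n : ℤ) + 1)) ((n : ℤ) + 1) →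
      (-1 : ℂ) ^ k.natAbs * ((2 * n + 2).choose (n + 1 + k.natAbs) : ℂ) *
        Complex.exp (Complex.I * (k : ℂ) * (y : ℂ)) = 0 := fun k _ hk => by
    rw [Nat.choose_eq_zero_of_lt (by
      simp only [Finset.mem_Icc, not_and, not_le] at hk
      omega)]
    simp
  rw [sym, ← Finset.sum_subset (fun k hk => by
    simp only [Finset.mem_Icc, Finset.mem_Ioo] at hk ⊢
    omega) hs]
  rw [hsq, div_pow, neg_pow ((1 - z) ^ 2), ← pow_mul, sub_pow, Finset.mul_sum, Finset.sum_div]
  refine (Finset.sum_bij' (fun k _ => ((n : ℤ) + 1 - k).toNat) (fun j _ => ((n : ℤ) + 1) - (j : ℤ))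
    (fun k hk => ?_) (fun j hj => ?_) (fun k hk => ?_) (fun j hj => ?_) (fun k hk => ?_))
  · simp only [Finset.mem_Icc] at hk
    simp only [Finset.mem_range]
    omega
  · simp only [Finset.mem_range] at hj
    simp only [Finset.mem_Icc]
    omega
  · simp only [Finset.mem_Icc] at hk
    omega
  · omega
  · simp only [Finset.mem_Icc] at hk
    obtain ⟨j, rfl⟩ : ∃ j : ℕ, k = ((n : ℤ) + 1) - (j : ℤ) := ⟨((n : ℤ) + 1 - k).toNat, by omega⟩
    rw [show ((n : ℤ) + 1 - ((n : ℤ) + 1 - (j : ℤ))).toNat = j by omega]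
    have hj : j ≤ 2 * (n + 1) := by omega
    have e1 : (2 * n + 2).choose (n + 1 + ((n : ℤ) + 1 - (j : ℤ)).natAbs) = (2 * (n + 1)).choose j ∧
        (-1 : ℂ) ^ ((n : ℤ) + 1 - (j : ℤ)).natAbs = (-1) ^ (n + 1) * (-1) ^ j := by
      rcases le_or_gt (n + 1) j with h | h
      · refine ⟨?_, ?_⟩
        · rw [show ((n : ℤ) + 1 - (j : ℤ)).natAbs = j - (n + 1) by omega,
            show n + 1 + (j - (n + 1)) = j by omega, show 2 * n + 2 = 2 * (n + 1) by ring]
        · rw [show ((n : ℤ) + 1 - (j : ℤ)).natAbs = j - (n + 1) by omega, ← pow_add,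
            show n + 1 + j = j - (n + 1) + ((n + 1) + (n + 1)) by omega, pow_add _ (j - (n + 1)),
            ← two_mul, pow_mul]
          simp
      · refine ⟨?_, ?_⟩
        · rw [show ((n : ℤ) + 1 - (j : ℤ)).natAbs = n + 1 - j by omega,
            show n + 1 + (n + 1 - j) = 2 * (n + 1) - j by omega, show 2 * n + 2 = 2 * (n + 1) by ring,
            Nat.choose_symm hj]
        · rw [show ((n : ℤ) + 1 - (j : ℤ)).natAbs = n + 1 - j by omega, ← pow_add,
            show n + 1 + j = n + 1 - j + (j + j) by omega, pow_add _ (n + 1 - j), ← two_mul, pow_mul]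
          simp
    rw [e1.1, e1.2]
    have e3 : Complex.exp (Complex.I * (((n : ℤ) + 1 - (j : ℤ) : ℤ) : ℂ) * (y : ℂ)) =
        z ^ (2 * (n + 1) - j) / z ^ (n + 1) := by
      rw [hz, ← Complex.exp_nat_mul, ← Complex.exp_nat_mul, ← Complex.exp_sub]
      congr 1
      rw [Nat.cast_sub hj]
      push_cast
      ring
    rw [e3, one_pow, mul_one]
    have e5 : (-1 : ℂ) ^ (j + 2 * (n + 1)) = (-1) ^ j := by rw [pow_add, pow_mul]; simp
    rw [e5]
    ring

lemma countable_cos (n : ℕ) :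
    Set.Countable {y : ℝ | ¬ 0 < (2 - 2 * Real.cos y) ^ (n + 1)} := by
  refine Set.Countable.mono (fun y hy => ?_) (Set.countable_range fun k : ℤ => (k : ℝ) * (2 * Real.pi))
  have h1 : Real.cos y = 1 := by
    by_contra h
    exact hy (pow_pos (by have := lt_of_le_of_ne (Real.cos_le_one y) h; linarith) _)
  exact (Real.cos_eq_one_iff y).mp h1

/-- The signed binomial Toeplitz matrices are nondegenerate. -/
theorem det_ne_zero (n m : ℕ) :
    (Matrix.of fun i j : Fin m =>
        (-1 : ℤ) ^ ((i : ℕ) + (j : ℕ)) *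
          (if (j : ℕ) ≤ (i : ℕ) then (Nat.choose (2 * n + 1) (n + 1 + ((i : ℕ) - (j : ℕ))) : ℤ)
            else (Nat.choose (2 * n + 1) (n + ((j : ℕ) - (i : ℕ))) : ℤ))).det ≠ 0 := by
  set B : Matrix (Fin m) (Fin m) ℤ := Matrix.of fun i j : Fin m =>
        (-1 : ℤ) ^ ((i : ℕ) + (j : ℕ)) *
          (if (j : ℕ) ≤ (i : ℕ) then (Nat.choose (2 * n + 1) (n + 1 + ((i : ℕ) - (j : ℕ))) : ℤ)
            else (Nat.choose (2 * n + 1) (n + ((j : ℕ) - (i : ℕ))) : ℤ)) with hB
  let t : ℤ → ℂ := fun k => (-1 : ℂ) ^ k.natAbs * ((2 * n + 2).choose (n + 1 + k.natAbs) : ℂ)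
  let T : Matrix (Fin (m + (n + 2))) (Fin (m + (n + 2))) ℂ :=
    Matrix.of fun i j => t (((j : ℕ) : ℤ) - ((i : ℕ) : ℤ))
  have hT : T.PosDef := by
    refine posDef _ t T (fun i j => rfl) (Matrix.IsHermitian.ext fun i j => ?_) ?_
    · simp only [T, t, Matrix.of_apply]
      rw [show (((i : ℕ) : ℤ) - ((j : ℕ) : ℤ)).natAbs = (((j : ℕ) : ℤ) - ((i : ℕ) : ℤ)).natAbs by omega]
      simp
    · have : ∀ y, (sym (m + (n + 2)) t y).re = (2 - 2 * Real.cos y) ^ (n + 1) := fun y => by
        rw [sym_choose n _ (by omega), ← Complex.ofReal_pow, Complex.ofReal_re]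
      simp_rw [this]
      exact countable_cos n
  have hS : (B.map (Int.cast : ℤ → ℂ) + (B.map (Int.cast : ℤ → ℂ))ᵀ).PosDef := by
    have e : B.map (Int.cast : ℤ → ℂ) + (B.map (Int.cast : ℤ → ℂ))ᵀ =
        T.submatrix (Fin.castAdd (n + 2)) (Fin.castAdd (n + 2)) := by
      ext i j
      simp only [Matrix.add_apply, Matrix.map_apply, Matrix.transpose_apply, hB, Matrix.of_apply, T, t,
        Matrix.submatrix_apply, Fin.val_castAdd]
      have key : ∀ (a b : ℕ) (d : ℕ), a = b + d →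
          ((-1 : ℤ) ^ (a + b) * ((2 * n + 1).choose (n + 1 + d) : ℤ) +
            (-1 : ℤ) ^ (b + a) * ((2 * n + 1).choose (n + d) : ℤ) : ℤ) =
            (-1 : ℤ) ^ d * ((2 * n + 2).choose (n + 1 + d) : ℤ) := by
        intro a b d h
        subst h
        rw [show n + 1 + d = n + d + 1 by omega, show 2 * n + 2 = (2 * n + 1) + 1 by omega,
          Nat.choose_succ_succ (2 * n + 1) (n + d)]
        rw [show b + d + b = d + 2 * b by ring, show b + (b + d) = d + 2 * b by ring, pow_add, pow_mul]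
        push_cast
        simp
        ring
      rcases lt_trichotomy (j : ℕ) (i : ℕ) with h | h | h
      · rw [if_pos h.le, if_neg (by omega), show (((j : ℕ) : ℤ) - ((i : ℕ) : ℤ)).natAbs = (i : ℕ) - j by omega]
        exact_mod_cast key i j ((i : ℕ) - j) (by omega)
      · rw [if_pos h.le, if_pos h.ge, h, Nat.sub_self, sub_self]
        have h2 := key (i : ℕ) i 0 (by omega)
        have hc : (2 * n + 1).choose n = (2 * n + 1).choose (n + 1) := Nat.choose_symm_half n ▸ rfl
        simp only [add_zero, hc] at h2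
        simp only [Int.natAbs_zero, add_zero]
        exact_mod_cast h2
      · rw [if_neg (by omega), if_pos h.le, show (((j : ℕ) : ℤ) - ((i : ℕ) : ℤ)).natAbs = (j : ℕ) - i by omega,
          add_comm]
        exact_mod_cast key j i ((j : ℕ) - i) (by omega)
    rw [e]
    exact hT.submatrix (Fin.castAdd_injective _ _)
  intro hd
  have hd' : (B.map (Int.cast : ℤ → ℂ)).det = 0 := by
    have := RingHom.map_det (Int.castRingHom ℂ) B
    rw [hd, map_zero] at this
    exact this.symm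
  obtain ⟨v, hv, hBv⟩ := Matrix.exists_mulVec_eq_zero_iff.mpr hd'
  have hp := hS.dotProduct_mulVec_pos hv
  have hreal : star (B.map (Int.cast : ℤ → ℂ)) = (B.map (Int.cast : ℤ → ℂ))ᵀ := by
    ext i j
    simp
  rw [Matrix.add_mulVec, hBv, zero_add, Matrix.mulVec_transpose, dotProduct_comm, ← Matrix.dotProduct_mulVec] at hp
  have h0 : B.map (Int.cast : ℤ → ℂ) *ᵥ star v = star (B.map (Int.cast : ℤ → ℂ) *ᵥ v) := by
    rw [Matrix.star_mulVec]
    change _ = star v ᵥ* star (B.map (Int.cast : ℤ → ℂ))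
    rw [hreal, Matrix.vecMul_transpose]
  rw [h0, hBv, star_zero, dotProduct_zero] at hp
  exact lt_irrefl _ hp

end ToeplitzLib
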